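import Groth.Agent.Lib.LogConnB.Piece
import Groth.Prelude.Def_LogDiff

/-!
Integrable logarithmic λ-connections preserve the layers, which do not depend on the coordinates.
-/

set_option autoImplicit false
set_option linter.unusedSectionVars false

universe v u

open TensorProduct

namespace GrothLib.LogConnB

variable {A : Type v} {B L E : Type u} [CommRing A] [CommRing B]
  [Algebra A B] [AddCommGroup L] [Module B L] [Module A L] [IsScalarTower A B L]
  [AddCommGroup E] [Module B E] [Module A E] [IsScalarTower A B E]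
  (lam : B) {n : ℕ} (t : Fin n → B) (bΩ : Module.Basis (Fin n) B (KaehlerDifferential A B))
  (hbΩ : ∀ i, bΩ i = KaehlerDifferential.D A B (t i))
  (ω : Module.Basis (Fin n) B L) (ι : KaehlerDifferential A B →ₗ[B] L)
  (hι : ∀ i, ι (KaehlerDifferential.D A B (t i)) = t i • ω i)
  (nabla : E →ₗ[A] E ⊗[B] L)
  (hc : Conn.IsLamConn (ι.compDer (KaehlerDifferential.D A B)) lam nabla)
  (d : ∀ p : ℕ, ↥(⋀[B]^p L) →ₗ[A] ↥(⋀[B]^(p + 1) L))
  (nablas : ∀ p : ℕ, E ⊗[B] ↥(⋀[B]^p L) →ₗ[A] E ⊗[B] ↥(⋀[B]^(p + 1) L))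
  (hint : Conn.IsIntegrable nabla (fun p => lam • d p) nablas)

theorem comp_decomp (z : E) : nabla z = ∑ i, LogConn.comp nabla ω i z ⊗ₜ[B] ω i := by
  have key : ∀ w : E ⊗[B] L,
      w = ∑ i, (TensorProduct.rid B E (TensorProduct.map LinearMap.id (ω.coord i) w)) ⊗ₜ[B] ω i := fun w => by
    induction w using TensorProduct.induction_on with
    | zero => simp
    | add a b ha hb =>
      simp only [map_add, add_tmul, Finset.sum_add_distrib]
      rw [← ha, ← hb]
    | tmul e l =>
      conv_lhs => rw [← ω.sum_repr l, tmul_sum]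
      refine Finset.sum_congr rfl fun K _ => ?_
      rw [TensorProduct.map_tmul, TensorProduct.rid_tmul, LinearMap.id_apply, smul_tmul, Module.Basis.coord_apply]
  exact key (nabla z)

theorem toOne_tmul' (m : E) (l : L) :
    Conn.toOne (B := B) (m ⊗ₜ[B] l) = m ⊗ₜ[B] exteriorPower.ιMulti B 1 (fun _ => l) := by
  rw [Conn.toOne_tmul]
  congr 1

theorem wedge_ιMulti (l : L) {p : ℕ} (v : Fin p → L) :
    Conn.wedge (B := B) p (exteriorPower.ιMulti B 1 fun _ => l) (exteriorPower.ιMulti B p v) =
      exteriorPower.ιMulti B (p + 1) (Fin.cons l v) := by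
  refine Subtype.ext ?_
  rw [Conn.wedge_apply_coe, exteriorPower.ιMulti_apply_coe, exteriorPower.ιMulti_apply_coe,
    exteriorPower.ιMulti_apply_coe, ExteriorAlgebra.ιMulti_succ_apply (Fin.cons l v),
    ExteriorAlgebra.ιMulti_succ_apply fun _ : Fin 1 => l, ExteriorAlgebra.ιMulti_zero_apply, mul_one,
    Fin.cons_zero]
  rfl

include hint in
theorem nablas_tmul {p : ℕ} (z : E) (v : Fin p → L) (hv : d p (exteriorPower.ιMulti B p v) = 0) :
    nablas p (z ⊗ₜ[B] exteriorPower.ιMulti B p v) =
      ∑ i, LogConn.comp nabla ω i z ⊗ₜ[B] exteriorPower.ιMulti B (p + 1) (Fin.cons (ω i) v) := by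
  rw [hint.1, comp_decomp ω nabla z, map_sum, map_sum, LinearMap.sum_apply]
  simp only [toOne_tmul', Conn.twedge_tmul, wedge_ιMulti, LinearMap.smul_apply, hv, smul_zero, tmul_zero, add_zero]

include hint in
theorem comp_comm (hd : ∀ i, d 1 (exteriorPower.ιMulti B 1 fun _ => ω i) = 0) (a b : Fin n) (z : E) :
    LogConn.comp nabla ω a (LogConn.comp nabla ω b z) = LogConn.comp nabla ω b (LogConn.comp nabla ω a z) := by
  classical
  wlog hab : a < b generalizing a b with H
  · rcases eq_or_lt_of_le (not_lt.1 hab) with rfl | h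
    · rfl
    · exact (H b a h).symm
  have h := hint.2 z
  rw [comp_decomp ω nabla z, map_sum, map_sum] at h
  simp only [toOne_tmul'] at h
  simp only [nablas_tmul lam ω nabla d nablas hint _ _ (hd _)] at h
  have hK : ({a, b} : Finset (Fin n)).card = 2 := Finset.card_pair hab.ne
  let K : Set.powersetCard (Fin n) 2 := ⟨{a, b}, hK⟩
  have hs : ∀ j : Fin 2, Set.powersetCard.ofFinEmbEquiv.symm K j = ![a, b] j := by
    have huniq := Finset.orderEmbOfFin_unique hK (f := ![a, b]) (fun x => by fin_cases x <;> simp) (by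
      intro x y hxy
      fin_cases x <;> fin_cases y <;> first | exact absurd hxy (by decide) | simpa using hab)
    intro j
    rw [Set.powersetCard.ofFinEmbEquiv_symm_apply]
    exact (congrFun huniq j).symm
  have h2 := congrArg (LogConn.coordE (E := E) ω 2 K) h
  rw [map_zero, map_sum, Finset.sum_congr rfl fun j _ => map_sum _ _ _] at h2
  have hc2 : ∀ (w : E) (v : Fin 2 → L), LogConn.coordE (E := E) ω 2 K (w ⊗ₜ[B] exteriorPower.ιMulti B 2 v) =
      (ω.coord a (v 0) * ω.coord b (v 1) - ω.coord b (v 0) * ω.coord a (v 1)) • w := fun w v => by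
    rw [LogConn.coordE, LinearMap.comp_apply, TensorProduct.map_tmul, exteriorPower.basis_coord,
      exteriorPower.ιMultiDual_apply_ιMulti, Matrix.det_fin_two]
    simp only [Matrix.of_apply, hs]
    exact TensorProduct.rid_tmul _ _
  simp only [hc2, Fin.cons_zero, Fin.cons_one, Module.Basis.coord_apply, Module.Basis.repr_self,
    Finsupp.single_apply, sub_smul, Finset.sum_sub_distrib, mul_ite, mul_one, mul_zero, ite_smul, one_smul,
    zero_smul] at h2
  simp only [Finset.sum_ite_irrel, Finset.sum_const_zero, Finset.sum_ite_eq', Finset.mem_univ, if_true] at h2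
  exact sub_eq_zero.1 h2

section comm

variable (hcomm : ∀ (a b : Fin n) (z : E),
  LogConn.comp nabla ω a (LogConn.comp nabla ω b z) = LogConn.comp nabla ω b (LogConn.comp nabla ω a z))

include hcomm in
theorem comp_compProd (i : Fin n) (J : Finset (Fin n)) (hi : i ∉ J) (y : E) :
    LogConn.comp nabla ω i (LogConn.compProd nabla ω J y) = LogConn.compProd nabla ω (insert i J) y := by
  induction J using Finset.induction_on_min generalizing y with
  | empty => rw [← compProd_insert ω nabla (a := i) (s := ∅) (fun x hx => by simp at hx)]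
  | insert a s has ih =>
    rw [Finset.mem_insert, not_or] at hi
    rcases lt_or_gt_of_ne hi.1 with h | h
    · rw [← compProd_insert ω nabla]
      intro x hx
      rcases Finset.mem_insert.1 hx with rfl | hx
      · exact h
      · exact h.trans (has x hx)
    · rw [compProd_insert ω nabla has, hcomm, ih hi.2, Finset.insert_comm, ← compProd_insert ω nabla]
      intro x hx
      rcases Finset.mem_insert.1 hx with rfl | hx
      · exact h
      · exact has x hx

include hcomm in
theorem comp_compProd_comm (i : Fin n) (J : Finset (Fin n)) (y : E) :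
    LogConn.comp nabla ω i (LogConn.compProd nabla ω J y) = LogConn.compProd nabla ω J (LogConn.comp nabla ω i y) := by
  induction J using Finset.induction_on_min generalizing y with
  | empty => simp [compProd_empty]
  | insert a s has ih => rw [compProd_insert ω nabla has, compProd_insert ω nabla has, hcomm, ih]

include hcomm in
theorem compProd_union (I J : Finset (Fin n)) (h : Disjoint I J) (y : E) :
    LogConn.compProd nabla ω (I ∪ J) y = LogConn.compProd nabla ω I (LogConn.compProd nabla ω J y) := by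
  induction I using Finset.induction_on_min generalizing y with
  | empty => simp [compProd_empty]
  | insert a s has ih =>
    rw [Finset.disjoint_insert_left] at h
    rw [Finset.insert_union, ← comp_compProd ω nabla hcomm a _ (by
      rw [Finset.mem_union, not_or]; exact ⟨fun h' => lt_irrefl a (has a h'), h.1⟩),
      compProd_insert ω nabla has, ih h.2]

include hcomm in
theorem piece_anti {I K : Finset (Fin n)} (h : I ⊆ K) (hsm : ∀ (b : B) (x : E),
    x ∈ LogConn.piece nabla ω t I → b • x ∈ LogConn.piece nabla ω t I) :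
    LogConn.piece nabla ω t K ≤ LogConn.piece nabla ω t I := fun x hx => by
  induction hx using piece_induction t ω nabla with
  | h0 => exact zero_mem _
  | hadd a b _ _ ha hb => exact add_mem ha hb
  | hgen J hJ y =>
    have e : LogConn.compProd nabla ω J y =
        LogConn.compProd nabla ω (J ∩ I) (LogConn.compProd nabla ω (J \ I) y) := by
      rw [← compProd_union ω nabla hcomm _ _ (Finset.disjoint_sdiff_inter J I).symm, Finset.union_comm,
        Finset.sdiff_union_inter]
    have hsub : I \ (J ∩ I) ⊆ K \ J := fun z hz => by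
      rw [Finset.mem_sdiff] at hz ⊢
      exact ⟨h hz.1, fun hzJ => hz.2 (Finset.mem_inter.2 ⟨hzJ, hz.1⟩)⟩
    rw [e, ← Finset.prod_sdiff hsub, mul_smul]
    exact hsm _ _ (gen_mem_piece t ω nabla Finset.inter_subset_right _)

include hbΩ hι hc hcomm in
theorem comp_mem_piece (j : Fin n) {I : Finset (Fin n)} {x : E} (hx : x ∈ LogConn.piece nabla ω t I) :
    LogConn.comp nabla ω j x ∈ LogConn.piece nabla ω t I := by
  induction hx using piece_induction t ω nabla with
  | h0 => rw [map_zero]; exact zero_mem _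
  | hadd a b _ _ ha hb => rw [map_add]; exact add_mem ha hb
  | hgen J hJ y =>
    rw [comp_smul lam t bΩ hbΩ ω ι hι nabla hc, comp_compProd_comm ω nabla hcomm]
    refine add_mem (gen_mem_piece t ω nabla hJ _) ?_
    by_cases hj : j ∈ I \ J
    · have h1 : bΩ.coord j (KaehlerDifferential.D A B (∏ i ∈ I \ J, t i)) * t j = ∏ i ∈ I \ J, t i := by
        rw [← Finset.mul_prod_erase _ _ hj, Derivation.leibniz, map_add, map_smul, map_smul,
          coord_D_prod t bΩ hbΩ j _ (Finset.notMem_erase j _), smul_zero, zero_add, ← hbΩ,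
          Module.Basis.coord_apply, Module.Basis.repr_self, Finsupp.single_eq_same, smul_eq_mul, mul_one, mul_comm]
      rw [smul_smul, mul_assoc, h1, mul_smul]
      exact smul_mem lam t bΩ hbΩ ω ι hι nabla hc _ (gen_mem_piece t ω nabla hJ y)
    · rw [coord_D_prod t bΩ hbΩ j _ hj, mul_zero, zero_smul]
      exact zero_mem _

include hbΩ hι hc hcomm in
theorem comp_mem_piece_insert {i : Fin n} {I : Finset (Fin n)} (hi : i ∉ I) {x : E}
    (hx : x ∈ LogConn.piece nabla ω t I) : LogConn.comp nabla ω i x ∈ LogConn.piece nabla ω t (insert i I) := by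
  induction hx using piece_induction t ω nabla with
  | h0 => rw [map_zero]; exact zero_mem _
  | hadd a b _ _ ha hb => rw [map_add]; exact add_mem ha hb
  | hgen J hJ y =>
    have hiJ : i ∉ J := fun h => hi (hJ h)
    rw [comp_smul lam t bΩ hbΩ ω ι hι nabla hc, coord_D_prod t bΩ hbΩ i _ (fun h => hi (Finset.mem_sdiff.1 h).1),
      mul_zero, zero_smul, add_zero, comp_compProd ω nabla hcomm i J hiJ]
    rw [show I \ J = insert i I \ insert i J by
      ext z; simp only [Finset.mem_sdiff, Finset.mem_insert]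
      exact ⟨fun h => ⟨Or.inr h.1, fun h' => h'.elim (fun e => hi (e ▸ h.1)) h.2⟩,
        fun h => ⟨h.1.resolve_left fun e => h.2 (Or.inl e), fun e => h.2 (Or.inr e)⟩⟩]
    exact gen_mem_piece t ω nabla (Finset.insert_subset_insert i hJ) y

variable (t' : Fin n → B) (bΩ' : Module.Basis (Fin n) B (KaehlerDifferential A B))
  (hbΩ' : ∀ i, bΩ' i = KaehlerDifferential.D A B (t' i))
  (ω' : Module.Basis (Fin n) B L) (hι' : ∀ i, ι (KaehlerDifferential.D A B (t' i)) = t' i • ω' i)
  (u : Fin n → B) (ht : ∀ i, t' i = u i * t i) (hω : ∀ j, ∃ η, ω j = ω' j + ι η)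

include hbΩ hι hc hcomm hbΩ' hι' ht hω in
theorem piece_le (I : Finset (Fin n)) : LogConn.piece nabla ω' t' I ≤ LogConn.piece nabla ω t I := by
  classical
  choose η hη using hω
  have hcomp : ∀ i z, LogConn.comp nabla ω' i z = LogConn.comp nabla ω i z +
      t i • ∑ j, (u i * bΩ'.coord i (η j)) • LogConn.comp nabla ω j z := fun i z => by
    have hrw : LogConn.comp nabla ω' i z =
        TensorProduct.rid B E (TensorProduct.map LinearMap.id (ω'.coord i) (nabla z)) := rfl
    rw [hrw, comp_decomp ω nabla z, map_sum, map_sum]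
    simp only [TensorProduct.map_tmul, TensorProduct.rid_tmul, LinearMap.id_apply, hη, map_add,
      coord_ι t' bΩ' hbΩ' ω' ι hι', add_smul, Finset.sum_add_distrib]
    congr 1
    · simp [Module.Basis.coord_apply, Finsupp.single_apply]
    · rw [Finset.smul_sum]
      exact Finset.sum_congr rfl fun j _ => by rw [smul_smul, ht]; ring_nf
  have hgen : ∀ J : Finset (Fin n), ∀ y : E, LogConn.compProd nabla ω' J y ∈ LogConn.piece nabla ω t J := by
    intro J
    induction J using Finset.induction_on_min with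
    | empty =>
      intro y
      have := gen_mem_piece t ω nabla (I := ∅) (J := ∅) subset_rfl y
      simpa [compProd_empty] using this
    | insert a s has ih =>
      intro y
      have ha : a ∉ s := fun h => lt_irrefl a (has a h)
      rw [compProd_insert ω' nabla has, hcomp]
      refine add_mem (comp_mem_piece_insert lam t bΩ hbΩ ω ι hι nabla hc hcomm ha (ih y)) ?_
      have hins : insert a s \ s = {a} := by
        ext x; simp only [Finset.mem_sdiff, Finset.mem_insert, Finset.mem_singleton]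
        exact ⟨fun h => h.1.resolve_right h.2, fun h => ⟨Or.inl h, h ▸ ha⟩⟩
      rw [← Finset.prod_singleton (f := t) (a := a), ← hins]
      exact prod_smul_mem t ω nabla (Finset.subset_insert a s) (Submodule.sum_mem _ fun j _ =>
        smul_mem lam t bΩ hbΩ ω ι hι nabla hc _ (comp_mem_piece lam t bΩ hbΩ ω ι hι nabla hc hcomm j (ih y)))
  intro x hx
  induction hx using piece_induction t' ω' nabla with
  | h0 => exact zero_mem _
  | hadd a b _ _ ha hb => exact add_mem ha hb
  | hgen J hJ y =>
    rw [Finset.prod_congr rfl fun i _ => ht i, Finset.prod_mul_distrib, mul_smul]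
    exact smul_mem lam t bΩ hbΩ ω ι hι nabla hc _ (prod_smul_mem t ω nabla hJ (hgen J y))

variable (hω' : ∀ j, ∃ η, ω' j = ω j + ι η)

include hbΩ hι hc hcomm hbΩ' hι' ht hω hω' in
theorem layer_mono (p : ℕ) : LogConn.layer nabla ω' t' p ≤ LogConn.layer nabla ω t p := by
  classical
  intro x hx
  rw [decomp ω' x]
  refine Submodule.sum_mem _ fun K _ => ?_
  have hK := piece_le lam t bΩ hbΩ ω ι hι nabla hc hcomm t' bΩ' hbΩ' ω' hι' u ht hω _
    (show LogConn.coordE (E := E) ω' p K x ∈ LogConn.piece nabla ω' t' K from (Submodule.mem_iInf _).1 hx K)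
  generalize LogConn.coordE (E := E) ω' p K x = y at hK ⊢
  set s := Set.powersetCard.ofFinEmbEquiv.symm K with hs
  choose η hη using hω'
  have hbK : (ω'.exteriorPower p) K = exteriorPower.ιMulti B p ((fun k => ω (s k)) + fun k => ι (η (s k))) := by
    rw [exteriorPower.basis_apply, exteriorPower.ιMulti_family]
    congr 1
    funext k
    exact hη (s k)
  rw [hbK]
  have hexp := MultilinearMap.map_add_univ (exteriorPower.ιMulti B p (M := L)).toMultilinearMap
    (fun k => ω (s k)) (fun k => ι (η (s k)))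
  simp only [AlternatingMap.coe_multilinearMap] at hexp
  rw [hexp, tmul_sum]
  refine Submodule.sum_mem _ fun T _ => ?_
  have hI : T.map s.toEmbedding ⊆ (K : Finset (Fin n)) := fun z hz => by
    obtain ⟨k, -, rfl⟩ := Finset.mem_map.1 hz
    exact (Set.powersetCard.mem_range_ofFinEmbEquiv_symm_iff_mem K _).1 ⟨k, rfl⟩
  refine tmul_mem_layer lam t bΩ hbΩ ω ι hι nabla hc (T.map s.toEmbedding) y (fun K' hK' => ?_) _
    (fun z hz => ?_) fun k => ?_
  · exact prod_smul_mem t ω nabla hK' (piece_anti t ω nabla hcomm hI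
      (fun b z hz => smul_mem lam t bΩ hbΩ ω ι hι nabla hc b hz) hK)
  · obtain ⟨k, hk, rfl⟩ := Finset.mem_map.1 hz
    exact ⟨k, Finset.piecewise_eq_of_mem T _ _ hk⟩
  · by_cases hk : k ∈ T
    · exact Or.inr ⟨s k, Finset.mem_map_of_mem _ hk, Finset.piecewise_eq_of_mem T _ _ hk⟩
    · exact Or.inl ⟨η (s k), (Finset.piecewise_eq_of_notMem T (fun k => ω (s k)) (fun k => ι (η (s k))) hk).symm⟩

end comm

variable (hd : LogDiff.IsLogRule (KaehlerDifferential.D A B) ι (⇑ω) d)

include hd in
theorem d_eq_zero {p : ℕ} (v : Fin p → L)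
    (hv : ∀ k, (∃ b, v k = ι (KaehlerDifferential.D A B b)) ∨ ∃ i, v k = ω i) :
    d p (exteriorPower.ιMulti B p v) = 0 := by
  have h := hd p 1 v hv
  rw [one_smul] at h
  rw [h]
  exact AlternatingMap.map_coord_zero _ 0 (by simp)

include hbΩ hι hc hint hd in
theorem nablas_mem (p : ℕ) (x : E ⊗[B] ↥(⋀[B]^p L)) (hx : x ∈ LogConn.layer nabla ω t p) :
    nablas p x ∈ LogConn.layer nabla ω t (p + 1) := by
  have hcomm := comp_comm lam ω nabla d nablas hint fun i => d_eq_zero ω ι d hd _ fun _ => Or.inr ⟨i, rfl⟩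
  refine layer_le t ω ι hι nabla (Submodule.comap (nablas p) (LogConn.layer nabla ω t (p + 1)))
    (fun J hJ y v hv1 hv2 => ?_) hx
  rw [Submodule.mem_comap, nablas_tmul lam ω nabla d nablas hint _ v (d_eq_zero ω ι d hd v fun k => by
    rcases lt_or_ge k.val J.card with h | h
    · exact Or.inr ⟨_, hv1 k h⟩
    · obtain ⟨i, hi⟩ := hv2 k h
      exact Or.inl ⟨_, hi⟩)]
  refine Submodule.sum_mem _ fun i _ => ?_
  have hmem : ∀ x ∈ J, ∃ k : Fin p, v k = ω x := fun x hx' => by
    obtain ⟨⟨q, hq⟩, hqx⟩ : ∃ q, J.orderEmbOfFin rfl q = x := by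
      have : x ∈ Set.range (J.orderEmbOfFin rfl) := by rw [Finset.range_orderEmbOfFin]; exact hx'
      exact this
    exact ⟨⟨q, lt_of_lt_of_le hq hJ⟩, by rw [hv1 ⟨q, lt_of_lt_of_le hq hJ⟩ hq, hqx]⟩
  by_cases hi : i ∈ J
  · obtain ⟨k, hk⟩ := hmem i hi
    rw [AlternatingMap.map_eq_zero_of_eq _ (Fin.cons (ω i) v) (i := 0) (j := k.succ) (by simp [hk]) (Fin.succ_ne_zero k).symm,
      tmul_zero]
    exact zero_mem _
  rw [comp_compProd ω nabla hcomm i J hi]
  refine tmul_mem_layer lam t bΩ hbΩ ω ι hι nabla hc (insert i J) _ (fun K hK => gen_mem_piece t ω nabla hK y) _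
    (fun z hz => ?_) fun k => ?_
  · rcases Finset.mem_insert.1 hz with rfl | hz
    · exact ⟨0, by simp⟩
    · obtain ⟨k, hk⟩ := hmem z hz
      exact ⟨k.succ, by simp [hk]⟩
  · refine Fin.cases (Or.inr ⟨i, Finset.mem_insert_self _ _, by simp⟩) (fun k => ?_) k
    rcases lt_or_ge k.val J.card with h | h
    · exact Or.inr ⟨_, Finset.mem_insert_of_mem (Finset.orderEmbOfFin_mem J rfl _), by rw [Fin.cons_succ]; exact hv1 k h⟩
    · obtain ⟨j, hj⟩ := hv2 k h
      exact Or.inl ⟨_, by rw [Fin.cons_succ]; exact hj.symm⟩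

include hbΩ hι hc hint hd in
theorem layer_eq (u : Fin n → Bˣ) (bΩ' : Module.Basis (Fin n) B (KaehlerDifferential A B))
    (hbΩ' : ∀ i, bΩ' i = KaehlerDifferential.D A B ((u i : B) * t i))
    (ω' : Module.Basis (Fin n) B L)
    (hω' : ∀ i, ω' i = ω i + ((u i)⁻¹ : Bˣ).val • ι (KaehlerDifferential.D A B (u i : B)))
    (p : ℕ) : LogConn.layer nabla ω t p = LogConn.layer nabla ω' (fun i => (u i : B) * t i) p := by
  have hι' : ∀ i, ι (KaehlerDifferential.D A B ((u i : B) * t i)) = ((u i : B) * t i) • ω' i := fun i => by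
    rw [hω', Derivation.leibniz, map_add, map_smul, map_smul, hι, smul_add, smul_smul, smul_smul]
    congr 2
    rw [mul_comm (u i : B), mul_assoc, Units.mul_inv, mul_one]
  have hd0 := fun i => d_eq_zero ω ι d hd (fun _ : Fin 1 => ω i) fun _ => Or.inr ⟨i, rfl⟩
  have hcomm := comp_comm lam ω nabla d nablas hint hd0
  have hd' : ∀ i, d 1 (exteriorPower.ιMulti B 1 fun _ => ω' i) = 0 := fun i => by
    have e : (exteriorPower.ιMulti B 1 fun _ => ω' i) = (exteriorPower.ιMulti B 1 fun _ => ω i) +
        ((u i)⁻¹ : Bˣ).val • exteriorPower.ιMulti B 1 (fun _ => ι (KaehlerDifferential.D A B (u i : B))) :=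
      (exteriorPower.oneEquiv B L).injective (by simp [exteriorPower.oneEquiv_ιMulti, hω'])
    rw [e, map_add, hd0, zero_add, hd 1 _ _ fun _ => Or.inl ⟨_, rfl⟩]
    have e2 : KaehlerDifferential.D A B ((u i)⁻¹ : Bˣ).val =
        (-(((u i)⁻¹ : Bˣ).val * ((u i)⁻¹ : Bˣ).val)) • KaehlerDifferential.D A B (u i : B) := by
      have h1 := (KaehlerDifferential.D A B).leibniz (u i : B) ((u i)⁻¹ : Bˣ).val
      rw [Units.mul_inv, Derivation.map_one_eq_zero] at h1
      have h2 := congrArg (((u i)⁻¹ : Bˣ).val • ·) h1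
      simp only [smul_zero, smul_add, smul_smul, Units.inv_mul, one_smul] at h2
      rw [neg_smul]
      exact eq_neg_of_add_eq_zero_left h2.symm
    rw [e2, map_smul,
      show (Fin.cons ((-(((u i)⁻¹ : Bˣ).val * ((u i)⁻¹ : Bˣ).val)) • ι (KaehlerDifferential.D A B (u i : B)))
          (fun _ => ι (KaehlerDifferential.D A B (u i : B))) : Fin 2 → L) =
        fun j => (![-(((u i)⁻¹ : Bˣ).val * ((u i)⁻¹ : Bˣ).val), 1] : Fin 2 → B) j •
          ι (KaehlerDifferential.D A B (u i : B)) by funext j; fin_cases j <;> simp,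
      AlternatingMap.map_smul_univ,
      AlternatingMap.map_eq_zero_of_eq _ _ (i := (0 : Fin 2)) (j := 1) rfl (by decide), smul_zero]
  have hcomm' := comp_comm lam ω' nabla d nablas hint hd'
  refine le_antisymm ?_ ?_
  · refine layer_mono lam (fun i => (u i : B) * t i) bΩ' hbΩ' ω' ι hι' nabla hc hcomm' t bΩ hbΩ ω hι
      (fun i => ((u i)⁻¹ : Bˣ).val) (fun i => by rw [← mul_assoc, Units.inv_mul, one_mul])
      (fun j => ⟨((u j)⁻¹ : Bˣ).val • KaehlerDifferential.D A B (u j : B), by rw [map_smul, hω']⟩)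
      (fun j => ⟨-(((u j)⁻¹ : Bˣ).val • KaehlerDifferential.D A B (u j : B)), by
        rw [map_neg, map_smul, hω']; abel⟩) p
  · exact layer_mono lam t bΩ hbΩ ω ι hι nabla hc hcomm (fun i => (u i : B) * t i) bΩ' hbΩ' ω' hι'
      (fun i => (u i : B)) (fun i => rfl)
      (fun j => ⟨-(((u j)⁻¹ : Bˣ).val • KaehlerDifferential.D A B (u j : B)), by
        rw [map_neg, map_smul, hω']; abel⟩)
      (fun j => ⟨((u j)⁻¹ : Bˣ).val • KaehlerDifferential.D A B (u j : B), by rw [map_smul, hω']⟩) p

end GrothLib.LogConnB
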