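import Groth.Prelude.Def_W4swconnpcurvhiggsLogLam
import Mathlib.Data.Finset.Max

/-!
The pieces of a module with a logarithmic λ-connection are submodules, and the graded pieces are generated as expected.
-/

set_option autoImplicit false
set_option linter.unusedSectionVars false

universe v u

open TensorProduct

namespace GrothLib.LogConnB

variable {A : Type v} {B L E : Type u} [CommRing A] [CommRing B]
  [Algebra A B] [AddCommGroup L] [Module B L] [Module A L] [IsScalarTower A B L]
  [AddCommGroup E] [Module B E] [Module A E] [IsScalarTower A B E]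
  (lam : B) {n : ℕ} (t : Fin n → B) (bΩ : Module.Basis (Fin n) B (KaehlerDifferential A B))
  (hbΩ : ∀ i, bΩ i = KaehlerDifferential.D A B (t i))
  (ω : Module.Basis (Fin n) B L) (ι : KaehlerDifferential A B →ₗ[B] L)
  (hι : ∀ i, ι (KaehlerDifferential.D A B (t i)) = t i • ω i)
  (nabla : E →ₗ[A] E ⊗[B] L)
  (hc : Conn.IsLamConn (ι.compDer (KaehlerDifferential.D A B)) lam nabla)

include hbΩ hι in
theorem coord_ι (i : Fin n) (η : KaehlerDifferential A B) :
    ω.coord i (ι η) = bΩ.coord i η * t i := by
  conv_lhs => rw [← bΩ.sum_repr η]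
  rw [map_sum, map_sum, Finset.sum_eq_single i]
  · rw [map_smul, map_smul, hbΩ, hι, map_smul, Module.Basis.coord_apply, Module.Basis.repr_self,
      Finsupp.single_eq_same, smul_eq_mul, smul_eq_mul, mul_one]; rfl
  · intro j _ hj
    rw [map_smul, map_smul, hbΩ, hι, map_smul, Module.Basis.coord_apply, Module.Basis.repr_self,
      Finsupp.single_eq_of_ne hj.symm, smul_zero, smul_zero]
  · exact fun h => absurd (Finset.mem_univ i) h

include hbΩ hι hc in
theorem comp_smul (i : Fin n) (b : B) (x : E) :
    LogConn.comp nabla ω i (b • x) =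
      b • LogConn.comp nabla ω i x + (lam * bΩ.coord i (KaehlerDifferential.D A B b)) • t i • x := by
  have hrw : ∀ y, LogConn.comp nabla ω i y = TensorProduct.rid B E (TensorProduct.map LinearMap.id (ω.coord i) (nabla y)) :=
    fun y => rfl
  rw [hrw, hrw, hc, map_add, map_add, map_smul, map_smul, map_smul, map_smul, TensorProduct.map_tmul]
  congr 1
  rw [TensorProduct.rid_tmul, LinearMap.id_apply, smul_smul, smul_smul]
  show (lam * ω.coord i (ι (KaehlerDifferential.D A B b))) • x = _
  rw [coord_ι t bΩ hbΩ ω ι hι, mul_assoc]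

include hbΩ in
theorem coord_D_prod (i : Fin n) (s : Finset (Fin n)) (hs : i ∉ s) :
    bΩ.coord i (KaehlerDifferential.D A B (∏ j ∈ s, t j)) = 0 := by
  induction s using Finset.induction with
  | empty => simp
  | insert a s ha ih =>
    rw [Finset.mem_insert, not_or] at hs
    rw [Finset.prod_insert ha, Derivation.leibniz, map_add, map_smul, map_smul, ih hs.2, ← hbΩ,
      Module.Basis.coord_apply, Module.Basis.repr_self, Finsupp.single_eq_of_ne hs.1, smul_zero, smul_zero,
      add_zero]

theorem compProd_empty (y : E) : LogConn.compProd nabla ω (∅ : Finset (Fin n)) y = y := by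
  simp [LogConn.compProd]

theorem compProd_insert {a : Fin n} {s : Finset (Fin n)} (h : ∀ x ∈ s, a < x) (y : E) :
    LogConn.compProd nabla ω (insert a s) y = LogConn.comp nabla ω a (LogConn.compProd nabla ω s y) := by
  rw [LogConn.compProd, Finset.sort_insert (h₁ := fun b hb => (h b hb).le) (h₂ := fun ha => lt_irrefl a (h a ha))]
  rfl

theorem gen_mem_piece {I J : Finset (Fin n)} (h : J ⊆ I) (y : E) :
    (∏ i ∈ I \ J, t i) • LogConn.compProd nabla ω J y ∈ LogConn.piece nabla ω t I :=
  Submodule.mem_iSup_of_mem J (Submodule.mem_iSup_of_mem (Finset.mem_powerset.2 h) ⟨y, rfl⟩)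

theorem piece_induction {I : Finset (Fin n)} {P : (x : E) → x ∈ LogConn.piece nabla ω t I → Prop}
    (h0 : P 0 (zero_mem _)) (hadd : ∀ a b ha hb, P a ha → P b hb → P (a + b) (add_mem ha hb))
    (hgen : ∀ (J : Finset (Fin n)) (hJ : J ⊆ I) (y : E),
      P ((∏ i ∈ I \ J, t i) • LogConn.compProd nabla ω J y) (gen_mem_piece t ω nabla hJ y))
    {x : E} (hx : x ∈ LogConn.piece nabla ω t I) : P x hx := by
  let Q : E → Prop := fun z => ∃ h, P z h
  have hQa : ∀ a b, Q a → Q b → Q (a + b) := fun a b ⟨ha, pa⟩ ⟨hb, pb⟩ => ⟨_, hadd a b ha hb pa pb⟩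
  suffices Q x from this.2
  refine Submodule.iSup_induction _ (motive := Q) hx (fun J z hz => ?_) ⟨_, h0⟩ hQa
  refine Submodule.iSup_induction _ (motive := Q) hz (fun hJ w hw => ?_) ⟨_, h0⟩ hQa
  obtain ⟨y, rfl⟩ := hw
  exact ⟨_, hgen J (Finset.mem_powerset.1 hJ) y⟩

theorem prod_smul_mem {I J : Finset (Fin n)} (h : J ⊆ I) {y : E} (hy : y ∈ LogConn.piece nabla ω t J) :
    (∏ i ∈ I \ J, t i) • y ∈ LogConn.piece nabla ω t I := by
  induction hy using piece_induction t ω nabla with
  | h0 => rw [smul_zero]; exact zero_mem _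
  | hadd a b _ _ ha hb => rw [smul_add]; exact add_mem ha hb
  | hgen K hK z =>
    rw [smul_smul, ← Finset.prod_union (Finset.disjoint_left.2 fun x hx hx' =>
      (Finset.mem_sdiff.1 hx).2 (Finset.mem_sdiff.1 hx').1), Finset.sdiff_union_sdiff_cancel h hK]
    exact gen_mem_piece t ω nabla (hK.trans h) z

include hbΩ hι hc in
theorem smul_compProd_mem (J : Finset (Fin n)) :
    ∀ (b : B) (e : E), b • LogConn.compProd nabla ω J e ∈ LogConn.piece nabla ω t J := by
  induction J using Finset.induction_on_min with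
  | empty =>
    intro b e
    have := gen_mem_piece t ω nabla (I := ∅) (J := ∅) subset_rfl (b • e)
    simpa [compProd_empty] using this
  | insert a s has ih =>
    intro b e
    have ha : a ∉ s := fun h => lt_irrefl a (has a h)
    have hins : insert a s \ s = {a} := by
      ext x; simp only [Finset.mem_sdiff, Finset.mem_insert, Finset.mem_singleton]
      exact ⟨fun h => h.1.resolve_right h.2, fun h => ⟨Or.inl h, h ▸ ha⟩⟩
    have ht : ∀ (β : B) (y : E), β • t a • LogConn.compProd nabla ω s y ∈ LogConn.piece nabla ω t (insert a s) :=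
      fun β y => by
        have := prod_smul_mem t ω nabla (I := insert a s) (Finset.subset_insert a s) (ih β y)
        rwa [hins, Finset.prod_singleton, smul_comm] at this
    have h1 : LogConn.comp nabla ω a (b • LogConn.compProd nabla ω s e) ∈ LogConn.piece nabla ω t (insert a s) := by
      refine piece_induction t ω nabla (P := fun z _ => LogConn.comp nabla ω a z ∈ LogConn.piece nabla ω t (insert a s))
        (by rw [map_zero]; exact zero_mem _) (fun u w _ _ hu hw => by rw [map_add]; exact add_mem hu hw) ?_ (ih b e)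
      intro K hK y
      rw [comp_smul lam t bΩ hbΩ ω ι hι nabla hc, coord_D_prod t bΩ hbΩ a _ (fun h => ha (Finset.mem_sdiff.1 h).1),
        mul_zero, zero_smul, add_zero, ← compProd_insert ω nabla fun x hx => has x (hK hx)]
      have hd : s \ K = insert a s \ insert a K := by
        ext x; simp only [Finset.mem_sdiff, Finset.mem_insert]
        exact ⟨fun h => ⟨Or.inr h.1, fun h' => h'.elim (fun e => ha (e ▸ h.1)) h.2⟩,
          fun h => ⟨h.1.resolve_left fun e => h.2 (Or.inl e), fun e => h.2 (Or.inr e)⟩⟩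
      rw [hd]
      exact gen_mem_piece t ω nabla (Finset.insert_subset_insert a hK) y
    have h2 := sub_mem h1 (ht (lam * bΩ.coord a (KaehlerDifferential.D A B b)) e)
    rwa [comp_smul lam t bΩ hbΩ ω ι hι nabla hc, add_sub_cancel_right, ← compProd_insert ω nabla has] at h2

include hbΩ hι hc in
theorem smul_mem {I : Finset (Fin n)} (b : B) {x : E} (hx : x ∈ LogConn.piece nabla ω t I) :
    b • x ∈ LogConn.piece nabla ω t I := by
  induction hx using piece_induction t ω nabla with
  | h0 => rw [smul_zero]; exact zero_mem _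
  | hadd u w _ _ hu hw => rw [smul_add]; exact add_mem hu hw
  | hgen J hJ y =>
    rw [smul_comm]
    exact prod_smul_mem t ω nabla hJ (smul_compProd_mem lam t bΩ hbΩ ω ι hι nabla hc J b y)

/-- The candidate generators of a piece. -/
abbrev G {m : ℕ} (e : Fin m → E) (I : Finset (Fin n)) : Submodule B E :=
  Submodule.span B (⋃ J ∈ I.powerset, Set.range (fun k : Fin m =>
    (∏ i ∈ I \ J, t i) • LogConn.compProd nabla ω J (e k)))

theorem gen_mem_G {m : ℕ} (e : Fin m → E) {I J : Finset (Fin n)} (h : J ⊆ I) (k : Fin m) :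
    (∏ i ∈ I \ J, t i) • LogConn.compProd nabla ω J (e k) ∈ G t ω nabla e I :=
  Submodule.subset_span (Set.mem_biUnion (Finset.mem_powerset.2 h) ⟨k, rfl⟩)

theorem prod_smul_mem_G {m : ℕ} (e : Fin m → E) {I J : Finset (Fin n)} (h : J ⊆ I) {y : E}
    (hy : y ∈ G t ω nabla e J) : (∏ i ∈ I \ J, t i) • y ∈ G t ω nabla e I := by
  induction hy using Submodule.span_induction with
  | mem z hz =>
    obtain ⟨K, hK, k, rfl⟩ := Set.mem_iUnion₂.1 hz
    rw [Finset.mem_powerset] at hK
    rw [smul_smul, ← Finset.prod_union (Finset.disjoint_left.2 fun x hx hx' =>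
      (Finset.mem_sdiff.1 hx).2 (Finset.mem_sdiff.1 hx').1), Finset.sdiff_union_sdiff_cancel h hK]
    exact gen_mem_G t ω nabla e (hK.trans h) k
  | zero => rw [smul_zero]; exact zero_mem _
  | add a b _ _ ha hb => rw [smul_add]; exact add_mem ha hb
  | smul a z _ hz => rw [smul_comm]; exact Submodule.smul_mem _ a hz

include hbΩ hι hc in
theorem compProd_mem_G {m : ℕ} (e : Fin m → E) (he : Submodule.span B (Set.range e) = ⊤) (J : Finset (Fin n)) :
    ∀ y : E, LogConn.compProd nabla ω J y ∈ G t ω nabla e J := by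
  induction J using Finset.induction_on_min with
  | empty =>
    intro y
    have hy : y ∈ Submodule.span B (Set.range e) := he ▸ trivial
    rw [compProd_empty]
    refine Submodule.span_le.2 ?_ hy
    rintro _ ⟨k, rfl⟩
    have := gen_mem_G t ω nabla e (I := ∅) (J := ∅) subset_rfl k
    simpa [compProd_empty] using this
  | insert a s has ih =>
    intro y
    have ha : a ∉ s := fun h => lt_irrefl a (has a h)
    have hins : insert a s \ s = {a} := by
      ext x; simp only [Finset.mem_sdiff, Finset.mem_insert, Finset.mem_singleton]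
      exact ⟨fun h => h.1.resolve_right h.2, fun h => ⟨Or.inl h, h ▸ ha⟩⟩
    rw [compProd_insert ω nabla has]
    have key : ∀ z ∈ G t ω nabla e s, LogConn.comp nabla ω a z ∈ G t ω nabla e (insert a s) ∧
        z ∈ G t ω nabla e s := by
      intro z hz
      induction hz using Submodule.span_induction with
      | mem w hw =>
        refine ⟨?_, Submodule.subset_span hw⟩
        obtain ⟨K, hK, k, rfl⟩ := Set.mem_iUnion₂.1 hw
        rw [Finset.mem_powerset] at hK
        rw [comp_smul lam t bΩ hbΩ ω ι hι nabla hc, coord_D_prod t bΩ hbΩ a _ (fun h => ha (Finset.mem_sdiff.1 h).1),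
          mul_zero, zero_smul, add_zero, ← compProd_insert ω nabla fun x hx => has x (hK hx)]
        have hd : s \ K = insert a s \ insert a K := by
          ext x; simp only [Finset.mem_sdiff, Finset.mem_insert]
          exact ⟨fun h => ⟨Or.inr h.1, fun h' => h'.elim (fun e => ha (e ▸ h.1)) h.2⟩,
            fun h => ⟨h.1.resolve_left fun e => h.2 (Or.inl e), fun e => h.2 (Or.inr e)⟩⟩
        rw [hd]
        exact gen_mem_G t ω nabla e (Finset.insert_subset_insert a hK) k
      | zero => exact ⟨by rw [map_zero]; exact zero_mem _, zero_mem _⟩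
      | add u w _ _ hu hw => exact ⟨by rw [map_add]; exact add_mem hu.1 hw.1, add_mem hu.2 hw.2⟩
      | smul β w _ hw =>
        refine ⟨?_, Submodule.smul_mem _ β hw.2⟩
        rw [comp_smul lam t bΩ hbΩ ω ι hι nabla hc]
        refine add_mem (Submodule.smul_mem _ β hw.1) (Submodule.smul_mem _ _ ?_)
        have := prod_smul_mem_G t ω nabla e (I := insert a s) (Finset.subset_insert a s) hw.2
        rwa [hins, Finset.prod_singleton] at this
    exact (key _ (ih y)).1

include hbΩ hι hc in
theorem G_eq_piece {m : ℕ} (e : Fin m → E) (he : Submodule.span B (Set.range e) = ⊤) (I : Finset (Fin n)) :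
    (G t ω nabla e I).restrictScalars A = LogConn.piece nabla ω t I := by
  refine le_antisymm (fun x hx => ?_) fun x hx => ?_
  · rw [Submodule.restrictScalars_mem] at hx
    induction hx using Submodule.span_induction with
    | mem z hz =>
      obtain ⟨K, hK, k, rfl⟩ := Set.mem_iUnion₂.1 hz
      exact gen_mem_piece t ω nabla (Finset.mem_powerset.1 hK) (e k)
    | zero => exact zero_mem _
    | add a b _ _ ha hb => exact add_mem ha hb
    | smul a z _ hz => exact smul_mem lam t bΩ hbΩ ω ι hι nabla hc a hz
  · rw [Submodule.restrictScalars_mem]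
    induction hx using piece_induction t ω nabla with
    | h0 => exact zero_mem _
    | hadd a b _ _ ha hb => exact add_mem ha hb
    | hgen J hJ y => exact prod_smul_mem_G t ω nabla e hJ (compProd_mem_G lam t bΩ hbΩ ω ι hι nabla hc e he J y)

include hbΩ hι hc in
theorem tmul_mem_layer {p : ℕ} (I : Finset (Fin n)) (z : E)
    (hz : ∀ K : Finset (Fin n), I ⊆ K → (∏ i ∈ K \ I, t i) • z ∈ LogConn.piece nabla ω t K)
    (v : Fin p → L) (hv1 : ∀ x ∈ I, ∃ k, v k = ω x)
    (hv2 : ∀ k, v k ∈ LinearMap.range ι ∨ ∃ x ∈ I, v k = ω x) :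
    z ⊗ₜ[B] exteriorPower.ιMulti B p v ∈ LogConn.layer nabla ω t p := by
  classical
  refine (Submodule.mem_iInf _).2 fun K => ?_
  rw [Submodule.mem_comap, LinearMap.restrictScalars_apply]
  set s := Set.powersetCard.ofFinEmbEquiv.symm K with hs
  have hcoord : LogConn.coordE (E := E) ω p K (z ⊗ₜ[B] exteriorPower.ιMulti B p v) =
      (Matrix.of fun i j => ω.coord (s j) (v i)).det • z := by
    rw [LogConn.coordE, LinearMap.comp_apply, TensorProduct.map_tmul, exteriorPower.basis_coord,
      exteriorPower.ιMultiDual_apply_ιMulti]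
    exact TensorProduct.rid_tmul _ _
  rw [hcoord]
  have hsK : ∀ x, (∃ j, s j = x) ↔ x ∈ (K : Finset (Fin n)) := fun x =>
    Set.powersetCard.mem_range_ofFinEmbEquiv_symm_iff_mem K x
  by_cases hIK : I ⊆ (K : Finset (Fin n))
  swap
  · obtain ⟨x, hxI, hxK⟩ := Finset.not_subset.1 hIK
    obtain ⟨k, hk⟩ := hv1 x hxI
    rw [Matrix.det_eq_zero_of_row_eq_zero k fun j => ?_, zero_smul]
    · exact zero_mem _
    · rw [Matrix.of_apply, hk, Module.Basis.coord_apply, Module.Basis.repr_self, Finsupp.single_eq_of_ne]
      exact fun h => hxK ((hsK x).1 ⟨j, h⟩)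
  have hN : ∀ i j, ∃ c : B, ω.coord (s j) (v i) = (if s j ∈ I then 1 else t (s j)) * c := fun i j => by
    split_ifs with hj
    · exact ⟨_, (one_mul _).symm⟩
    rcases hv2 i with ⟨η, hη⟩ | ⟨x, hx, hvx⟩
    · exact ⟨bΩ.coord (s j) η, by rw [← hη, coord_ι t bΩ hbΩ ω ι hι, mul_comm]⟩
    · refine ⟨0, ?_⟩
      rw [hvx, Module.Basis.coord_apply, Module.Basis.repr_self, mul_zero, Finsupp.single_eq_of_ne]
      intro e'
      exact hj (e' ▸ hx)
  choose N hN' using hN
  have hM : (Matrix.of fun i j => ω.coord (s j) (v i)) =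
      Matrix.of fun i j => (if s j ∈ I then 1 else t (s j)) * Matrix.of N i j :=
    Matrix.ext fun i j => hN' i j
  rw [hM, Matrix.det_mul_row, mul_comm, ← smul_smul]
  refine smul_mem lam t bΩ hbΩ ω ι hι nabla hc _ ?_
  have hprod : ∏ j, (if s j ∈ I then (1 : B) else t (s j)) = ∏ i ∈ (K : Finset (Fin n)) \ I, t i := by
    rw [show (K : Finset (Fin n)) \ I = ((K : Finset (Fin n)).filter fun i => i ∉ I) by ext; simp,
      Finset.prod_filter, show (K : Finset (Fin n)) = Finset.univ.map s.toEmbedding by
        ext x; rw [Finset.mem_map, ← hsK]; simp, Finset.prod_map]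
    refine Finset.prod_congr rfl fun j _ => ?_
    rw [ite_not]; rfl
  rw [hprod]
  exact hz _ hIK

theorem decomp {p : ℕ} (x : E ⊗[B] ↥(⋀[B]^p L)) :
    x = ∑ K : Set.powersetCard (Fin n) p, LogConn.coordE (E := E) ω p K x ⊗ₜ[B] ω.exteriorPower p K := by
  induction x using TensorProduct.induction_on with
  | zero => simp
  | add a b ha hb =>
    simp only [map_add, add_tmul, Finset.sum_add_distrib]
    rw [← ha, ← hb]
  | tmul e η =>
    conv_lhs => rw [← (ω.exteriorPower p).sum_repr η, tmul_sum]
    refine Finset.sum_congr rfl fun K _ => ?_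
    rw [LogConn.coordE, LinearMap.comp_apply, TensorProduct.map_tmul, LinearEquiv.coe_coe,
      TensorProduct.rid_tmul, LinearMap.id_apply, smul_tmul, Module.Basis.coord_apply]

include hι in
theorem layer_le {p : ℕ} (S : Submodule A (E ⊗[B] ↥(⋀[B]^p L)))
    (h : ∀ (J : Finset (Fin n)) (_ : J.card ≤ p) (y : E) (v : Fin p → L),
      (∀ (k : Fin p) (hk : k.val < J.card), v k = ω (J.orderEmbOfFin rfl ⟨k.val, hk⟩)) →
      (∀ k : Fin p, J.card ≤ k.val → ∃ i, v k = ι (KaehlerDifferential.D A B (t i))) →
      LogConn.compProd nabla ω J y ⊗ₜ[B] exteriorPower.ιMulti B p v ∈ S) :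
    LogConn.layer nabla ω t p ≤ S := by
  classical
  intro x hx
  rw [decomp ω x]
  refine Submodule.sum_mem _ fun K _ => ?_
  have hK := (Submodule.mem_iInf _).1 hx K
  rw [Submodule.mem_comap, LinearMap.restrictScalars_apply] at hK
  generalize LogConn.coordE (E := E) ω p K x = y at hK ⊢
  induction hK using piece_induction t ω nabla with
  | h0 => rw [zero_tmul]; exact zero_mem _
  | hadd a b _ _ ha hb => rw [add_tmul]; exact add_mem ha hb
  | hgen J hJ z =>
    set s := Set.powersetCard.ofFinEmbEquiv.symm K with hs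
    have hKc : (K : Finset (Fin n)).card = p := K.2
    have hJc : J.card ≤ p := hKc ▸ Finset.card_le_card hJ
    have hDc : ((K : Finset (Fin n)) \ J).card = p - J.card := by rw [Finset.card_sdiff_of_subset hJ, hKc]
    let f : Fin p → Fin n := fun k =>
      if h : k.val < J.card then J.orderEmbOfFin rfl ⟨k.val, h⟩
      else ((K : Finset (Fin n)) \ J).orderEmbOfFin rfl ⟨k.val - J.card, by omega⟩
    have hfK : ∀ k, f k ∈ (K : Finset (Fin n)) := fun k => by
      simp only [f]; split_ifs with h
      · exact hJ (Finset.orderEmbOfFin_mem J rfl _)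
      · exact (Finset.mem_sdiff.1 (Finset.orderEmbOfFin_mem _ rfl _)).1
    have hfinj : Function.Injective f := fun a b hab => by
      simp only [f] at hab
      split_ifs at hab with ha hb hb
      · exact Fin.ext (Fin.mk.inj_iff.1 ((J.orderEmbOfFin rfl).injective hab))
      · exact absurd (hab ▸ Finset.orderEmbOfFin_mem J rfl _) (Finset.mem_sdiff.1 (Finset.orderEmbOfFin_mem _ rfl _)).2
      · exact absurd (hab ▸ Finset.orderEmbOfFin_mem J rfl _) (Finset.mem_sdiff.1 (Finset.orderEmbOfFin_mem _ rfl _)).2
      · have := congrArg Fin.val ((((K : Finset (Fin n)) \ J).orderEmbOfFin rfl).injective hab)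
        exact Fin.ext (by simp at this; omega)
    choose σ hσ using fun k => (Set.powersetCard.mem_range_ofFinEmbEquiv_symm_iff_mem K (f k)).2 (hfK k)
    have hσinj : Function.Injective σ := fun a b hab => hfinj (by rw [← hσ, ← hσ, hab])
    let π : Equiv.Perm (Fin p) := Equiv.ofBijective σ (Finite.injective_iff_bijective.1 hσinj)
    have hperm : exteriorPower.ιMulti B p (fun k => ω (f k)) = Equiv.Perm.sign π • ω.exteriorPower p K := by
      rw [exteriorPower.basis_apply, exteriorPower.ιMulti_family, ← AlternatingMap.map_perm]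
      congr 1
      funext k
      exact congrArg ω (hσ k).symm
    let v : Fin p → L := fun k => if k.val < J.card then ω (f k) else t (f k) • ω (f k)
    have hv : exteriorPower.ιMulti B p v =
        (∏ i ∈ (K : Finset (Fin n)) \ J, t i) • exteriorPower.ιMulti B p (fun k => ω (f k)) := by
      rw [show v = fun k => (if k.val < J.card then (1 : B) else t (f k)) • ω (f k) from funext fun k => by
        simp only [v]; split_ifs <;> simp, AlternatingMap.map_smul_univ]
      congr 1
      have himg : (Finset.univ : Finset (Fin p)).map ⟨f, hfinj⟩ = (K : Finset (Fin n)) :=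
        Finset.eq_of_subset_of_card_le (fun x hx => by
          obtain ⟨k, -, rfl⟩ := Finset.mem_map.1 hx
          exact hfK k) (by simp [hKc])
      rw [show (K : Finset (Fin n)) \ J = ((K : Finset (Fin n)).filter fun i => i ∉ J) by ext; simp,
        Finset.prod_filter, ← himg, Finset.prod_map]
      refine Finset.prod_congr rfl fun k _ => ?_
      show _ = if f k ∉ J then t (f k) else 1
      by_cases h : k.val < J.card
      · rw [if_pos h, if_neg]
        simp only [not_not, f, dif_pos h]
        exact Finset.orderEmbOfFin_mem J rfl _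
      · rw [if_neg h, if_pos]
        simp only [f, dif_neg h]
        exact (Finset.mem_sdiff.1 (Finset.orderEmbOfFin_mem _ rfl _)).2
    have hmem := h J hJc z v (fun k hk => by simp only [v, if_pos hk, f, dif_pos hk])
      (fun k hk => ⟨f k, by simp only [v, if_neg (not_lt.2 hk)]; exact (hι _).symm⟩)
    rw [hv, hperm, ← smul_tmul] at hmem
    rcases Int.units_eq_one_or (Equiv.Perm.sign π) with h' | h'
    · rw [h', one_smul] at hmem; exact hmem
    · rw [h'] at hmem
      simpa [Units.smul_def, tmul_neg] using neg_mem hmem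

include hbΩ hι hc in
theorem span_gens (p : ℕ) :
    (Submodule.span B (LogConn.gens nabla ω ι p)).restrictScalars A = LogConn.layer nabla ω t p := by
  refine le_antisymm (fun x hx => ?_) (layer_le t ω ι hι nabla _ fun J hJ y v hv1 hv2 => ?_)
  · rw [Submodule.restrictScalars_mem] at hx
    induction hx using Submodule.span_induction with
    | zero => exact zero_mem _
    | add a b _ _ ha hb => exact add_mem ha hb
    | smul a z _ hz =>
      refine (Submodule.mem_iInf _).2 fun K => ?_
      have hK := (Submodule.mem_iInf _).1 hz K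
      rw [Submodule.mem_comap, LinearMap.restrictScalars_apply] at hK ⊢
      rw [map_smul]
      exact smul_mem lam t bΩ hbΩ ω ι hι nabla hc a hK
    | mem z hz =>
      obtain ⟨I, hI, e, v, hv1, hv2, rfl⟩ := hz
      refine tmul_mem_layer lam t bΩ hbΩ ω ι hι nabla hc I _ (fun K hK => gen_mem_piece t ω nabla hK e) v
        (fun x hx => ?_) fun k => ?_
      · obtain ⟨⟨q, hq⟩, hqx⟩ : ∃ q, I.orderEmbOfFin rfl q = x := by
          have : x ∈ Set.range (I.orderEmbOfFin rfl) := by rw [Finset.range_orderEmbOfFin]; exact hx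
          exact this
        exact ⟨⟨q, lt_of_lt_of_le hq hI⟩, by rw [hv1 ⟨q, lt_of_lt_of_le hq hI⟩ hq, hqx]⟩
      · rcases lt_or_ge k.val I.card with h | h
        · exact Or.inr ⟨_, Finset.orderEmbOfFin_mem I rfl _, hv1 k h⟩
        · exact Or.inl (hv2 k h)
  · refine Submodule.subset_span ⟨J, hJ, y, v, hv1, fun k hk => ?_, rfl⟩
    obtain ⟨i, hi⟩ := hv2 k hk
    exact ⟨_, hi.symm⟩

end GrothLib.LogConnB
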